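import Cfsg.Agent.H352.KS.Defs
import Cfsg.Agent.H55.KKL.Psp

/-!
# S4577, rows `PSp_2m(q)`: the symplectic frame (helper639)
-/

set_option autoImplicit false

open Cfsg Cfsg.Agent.H352.KS Cfsg.Agent.H55.KKL Matrix

namespace Cfsg.Agent.H639.KS

variable {F : Type} [Field F]

theorem sig_anti {m : ℕ} (a b : Matrix (Fin m ⊕ Fin m) (Fin m ⊕ Fin m) F) :
    sig m F (a * b) = sig m F b * sig m F a := by
  have hJ : J (Fin m) F * J (Fin m) F = -1 := J_squared (Fin m) F
  rw [sig_apply, sig_apply, sig_apply, transpose_mul]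
  calc -J (Fin m) F * (bᵀ * aᵀ) * J (Fin m) F = -J (Fin m) F * bᵀ * (-(-1)) * aᵀ * J (Fin m) F := by
        rw [neg_neg, Matrix.mul_one]
        simp only [Matrix.mul_assoc]
    _ = (-J (Fin m) F * bᵀ * J (Fin m) F) * (-J (Fin m) F * aᵀ * J (Fin m) F) := by
        rw [← hJ]
        simp only [Matrix.mul_assoc, Matrix.neg_mul, Matrix.mul_neg]

theorem sig_one {m : ℕ} : sig m F 1 = 1 := by
  rw [sig_apply, transpose_one, Matrix.mul_one, Matrix.neg_mul, J_squared (Fin m) F, neg_neg]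

theorem sig_mul_iff {m : ℕ} (M : Matrix (Fin m ⊕ Fin m) (Fin m ⊕ Fin m) F) :
    sig m F M * M = 1 ↔ M ∈ symplecticGroup (Fin m) F := by
  have hJ : J (Fin m) F * J (Fin m) F = -1 := J_squared (Fin m) F
  rw [SymplecticGroup.mem_iff', sig_apply]
  constructor
  · intro h
    have h1 : J (Fin m) F * (-J (Fin m) F * Mᵀ * J (Fin m) F * M) = J (Fin m) F := by rw [h, Matrix.mul_one]
    have h2 : J (Fin m) F * (-J (Fin m) F * Mᵀ * J (Fin m) F * M) = Mᵀ * J (Fin m) F * M := by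
      calc J (Fin m) F * (-J (Fin m) F * Mᵀ * J (Fin m) F * M)
          = -(J (Fin m) F * J (Fin m) F) * Mᵀ * J (Fin m) F * M := by
            simp only [Matrix.mul_assoc, Matrix.neg_mul, Matrix.mul_neg]
        _ = Mᵀ * J (Fin m) F * M := by rw [hJ, neg_neg, Matrix.one_mul]
    rw [← h2, h1]
  · intro h
    calc -J (Fin m) F * Mᵀ * J (Fin m) F * M = -J (Fin m) F * (Mᵀ * J (Fin m) F * M) := by
          simp only [Matrix.mul_assoc]
      _ = 1 := by rw [h, Matrix.neg_mul, hJ, neg_neg]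

theorem fi_injective (m : ℕ) : Function.Injective (fi m F) := fun _ _ hab => Subtype.ext
  (congrArg (fun u : (Matrix (Fin m ⊕ Fin m) (Fin m ⊕ Fin m) F)ˣ =>
    (u : Matrix (Fin m ⊕ Fin m) (Fin m ⊕ Fin m) F)) hab)

theorem mem_range_fi {m : ℕ} (u : (Matrix (Fin m ⊕ Fin m) (Fin m ⊕ Fin m) F)ˣ) :
    u ∈ (fi m F).range ↔ sig m F (u : Matrix (Fin m ⊕ Fin m) (Fin m ⊕ Fin m) F) * u = 1 := by
  rw [sig_mul_iff]
  constructor
  · rintro ⟨A, rfl⟩
    exact A.2
  · intro h
    exact ⟨⟨_, h⟩, Units.ext rfl⟩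

/-- the projection -/
noncomputable def prj (m : ℕ) (F : Type) [Field F] : (fi m F).range →* PSp m F :=
  (QuotientGroup.mk' (Subgroup.center (Matrix.symplecticGroup (Fin m) F))).comp
    (MonoidHom.ofInjective (fi_injective (F := F) m)).symm.toMonoidHom

theorem prj_fi {m : ℕ} (A : Matrix.symplecticGroup (Fin m) F) (h : fi m F A ∈ (fi m F).range) :
    prj m F ⟨fi m F A, h⟩ = QuotientGroup.mk' _ A := by
  have h1 : (MonoidHom.ofInjective (fi_injective (F := F) m)).symm ⟨fi m F A, h⟩ = A := by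
    rw [MulEquiv.symm_apply_eq]
    rfl
  change QuotientGroup.mk' _ ((MonoidHom.ofInjective (fi_injective (F := F) m)).symm ⟨fi m F A, h⟩) = _
  rw [h1]

/-- **(D1)** the symplectic groups -/
theorem pd1 : PD1 := by
  intro F _ _ h2 m hm
  refine ⟨sig m F, (fi m F).range, (fi m F).range, prj m F,
    { one := sig_one
      anti := sig_anti
      mem := mem_range_fi
      le := le_rfl
      comm := fun a ha b hb => mul_mem (mul_mem (mul_mem ha hb) (inv_mem ha)) (inv_mem hb)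
      idx := by rw [Subgroup.relIndex_self]; norm_num
      sim := ?_
      surj := ?_
      ker := ?_ }, fun c M => ?_⟩
  · intro s hs g hg
    rw [mem_range_fi] at hg ⊢
    have e1 : ((s * g * s⁻¹ : (Matrix (Fin m ⊕ Fin m) (Fin m ⊕ Fin m) F)ˣ) :
        Matrix (Fin m ⊕ Fin m) (Fin m ⊕ Fin m) F) = s * g * ((s⁻¹ : (Matrix (Fin m ⊕ Fin m) (Fin m ⊕ Fin m) F)ˣ) :
        Matrix (Fin m ⊕ Fin m) (Fin m ⊕ Fin m) F) := by
      rw [Units.val_mul, Units.val_mul]
    rw [e1, sig_anti, sig_anti]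
    set t : Matrix (Fin m ⊕ Fin m) (Fin m ⊕ Fin m) F := ((s⁻¹ : (Matrix (Fin m ⊕ Fin m) (Fin m ⊕ Fin m) F)ˣ) :
        Matrix (Fin m ⊕ Fin m) (Fin m ⊕ Fin m) F) with ht
    have hst : (s : Matrix (Fin m ⊕ Fin m) (Fin m ⊕ Fin m) F) * t = 1 := by rw [ht, Units.mul_inv]
    calc sig m F t * (sig m F (g : Matrix _ _ F) * sig m F (s : Matrix _ _ F)) * (s * g * t)
        = sig m F t * sig m F (g : Matrix _ _ F) * (sig m F (s : Matrix _ _ F) * s) * g * t := by
          simp only [mul_assoc]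
      _ = sig m F t * 2 * (sig m F (g : Matrix _ _ F) * g) * t := by
          rw [hs]
          have h4 : ∀ a : Matrix (Fin m ⊕ Fin m) (Fin m ⊕ Fin m) F, a * 2 = 2 * a := fun a => by
            rw [mul_two, two_mul]
          simp only [h4, mul_assoc]
      _ = sig m F t * (sig m F (s : Matrix _ _ F) * s) * t := by rw [hg, mul_one, hs]
      _ = sig m F (s * t) * (s * t) := by rw [sig_anti]; simp only [mul_assoc]
      _ = 1 := by rw [hst, sig_one, mul_one]
  · intro z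
    obtain ⟨A, rfl⟩ := QuotientGroup.mk'_surjective _ z
    exact ⟨⟨fi m F A, ⟨A, rfl⟩⟩, prj_fi A _⟩
  · rintro ⟨_, A, rfl⟩ hz
    replace hz := (prj_fi A ⟨A, rfl⟩).symm.trans hz
    have h3 : A ∈ Subgroup.center (Matrix.symplecticGroup (Fin m) F) := by
      rw [← QuotientGroup.ker_mk' (Subgroup.center (Matrix.symplecticGroup (Fin m) F))]
      exact hz
    obtain ⟨a, ha⟩ := (LieClassical.SympCenter.mem_center_iff m A).1 h3
    have h4 : a * a = 1 := LieClassical.SympCenter.sq_eq_one_of_smul_mem hm (by rw [← ha]; exact A.2)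
    have h5 : a = 1 ∨ a = -1 := mul_self_eq_one_iff.1 h4
    change A.1 = 1 ∨ A.1 = -1
    rcases h5 with rfl | rfl
    · left; rw [ha, one_smul]
    · right; rw [ha, neg_smul, one_smul]
  · rw [sig_apply, sig_apply, transpose_smul, Matrix.mul_smul, Matrix.smul_mul]

end Cfsg.Agent.H639.KS
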